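import Cfsg.Agent.Lib.LocalChar.BasicAsym
import Cfsg.Agent.Lib.Amalgam.CharP

/-!
# The family `ℌ_G(O_p(M))`
-/

set_option autoImplicit false

namespace Cfsg.Agent.Lib.FrakH55

open Cfsg Subgroup Cfsg.Agent.Lib.LocalChar
open scoped commutatorElement Pointwise

universe u

variable {G : Type u} [Group G] [Finite G] {p : ℕ} [hp : Fact p.Prime]
variable {S : Sylow p G} {M H : Subgroup G}

local notation "Y₀" => largestPReducedOf p M
local notation "T₀" => pCoreOf p M
local notation "C₀" => centralizer ((largestPReducedOf p M : Subgroup G) : Set G)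

omit hp in
theorem le_pCoreOf_inf {K L A : Subgroup G} (hKL : K ≤ L) (hn : L ≤ normalizer (K : Set G))
    {P : Subgroup G} (hKP : K ≤ P) (hAK : A ≤ K) (hAP : A ≤ pCoreOf p P) : A ≤ pCoreOf p L :=
  (le_inf hAK hAP).trans <|
    (CharP.le_pCoreOf inf_le_left ((CharP.pCoreOf_isPGroup P).to_le inf_le_right)
      (le_normalizer_inf_of_le Subgroup.le_normalizer (hKP.trans (CharP.le_normalizer_pCoreOf P)))).trans
    (pCoreOf_le_pCoreOf_of_normal hKL hn)

/-- Subnormality inside `L`. -/
theorem pCoreOf_le_of_resOf_le {L P : Subgroup G} (hPL : P ≤ L)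
    (hR : (pResidual p ↥L).map L.subtype ≤ P) : pCoreOf p P ≤ pCoreOf p L := by
  have h : (P.subgroupOf L).IsSubnormal :=
    isSubnormal_of_pResidual_le (p := p) (map_le_iff_le_comap.mp hR)
  have h1 := map_mono (f := L.subtype) (pCoreOf_le_pCore_of_isSubnormal (p := p) h)
  rwa [← Amalgam.pCoreOf_map _ L.subtype_injective, map_subgroupOf_eq_of_le hPL] at h1

theorem Y_le (hH : IsInFrakH p M H) : Y₀ ≤ H := largest_le_pCoreOf.trans hH.2.1

/-- `H` is the normal closure of `O_p(M)` in `H`. -/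
theorem eq_of_normal (hH : IsInFrakH p M H) {U : Subgroup G} (hUH : U ≤ H)
    (hn : H ≤ normalizer (U : Set G)) (hT : T₀ ≤ U) : U = H := by
  by_contra hne
  exact hH.2.2.1 ((hH.2.2.2 U hT (lt_of_le_of_ne hUH hne)).trans (pCoreOf_le_pCoreOf_of_normal hUH hn))

theorem resOf_sup (hH : IsInFrakH p M H) : (pResidual p ↥H).map H.subtype ⊔ T₀ = H := by
  by_contra hne
  have hle : (pResidual p ↥H).map H.subtype ⊔ T₀ ≤ H := sup_le (resOf_le H) hH.2.1
  exact hH.2.2.1 ((hH.2.2.2 _ le_sup_right (lt_of_le_of_ne hle hne)).trans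
    (pCoreOf_le_of_resOf_le hle le_sup_left))

theorem commutator_resOf (hH : IsInFrakH p M H) :
    ⁅(pResidual p ↥H).map H.subtype, Y₀⁆ = (pResidual p ↥H).map H.subtype := by
  set R := (pResidual p ↥H).map H.subtype with hR
  set K := ⁅R, Y₀⁆ with hK
  have hHR : H ≤ normalizer (R : Set G) := le_normalizer_resOf H
  have hTY : T₀ ≤ normalizer (Y₀ : Set G) :=
    (CharP.pCoreOf_le M).trans (isRedIn_largest M).2.1
  have hKR : K ≤ R := le_normalizer_iff_commutator_le_left.mp ((Y_le hH).trans hHR)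
  have hnK : H ≤ normalizer (K : Set G) := by
    rw [← resOf_sup hH]
    exact sup_le (Subgroup.normalizer_commutator_ge_left R Y₀)
      (le_normalizer_commutator_of_le (hH.2.1.trans hHR) hTY)
  set W := K ⊔ Y₀ with hW
  have hWH : W ≤ H := sup_le (hKR.trans (resOf_le H)) (Y_le hH)
  have hRY : R ≤ normalizer (W : Set G) := by
    intro r hr
    refine mem_normalizer_of_conj_map_le ?_
    rw [hW, Subgroup.map_sup]
    refine sup_le ((conj_map_eq_of_mem (hnK (resOf_le H hr))).le.trans le_sup_left) ?_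
    rintro _ ⟨y, hy, rfl⟩
    show r * y * r⁻¹ ∈ K ⊔ Y₀
    rw [show r * y * r⁻¹ = ⁅r, y⁆ * y by rw [commutatorElement_def]; group]
    exact mul_mem (mem_sup_left (commutator_mem_commutator hr hy)) (mem_sup_right hy)
  have hnW : H ≤ normalizer (W : Set G) := by
    rw [← resOf_sup hH]
    exact sup_le hRY (le_normalizer_sup_of_le (hH.2.1.trans hnK) hTY)
  have hKT : K ⊔ T₀ = H := by
    by_contra hne
    have hle : K ⊔ T₀ ≤ H := sup_le (hKR.trans (resOf_le H)) hH.2.1
    exact hH.2.2.1 (le_pCoreOf_inf hWH hnW (sup_le_sup_left largest_le_pCoreOf K)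
      (le_sup_right : Y₀ ≤ W) (hH.2.2.2 _ le_sup_right (lt_of_le_of_ne hle hne)))
  exact le_antisymm hKR
    (resOf_le_of_le_sup (CharP.pCoreOf_isPGroup M) (hH.2.1.trans hnK) hKT.ge)

/-- `O^p(H) Y_M` is normal in `H` and lies in every normal subgroup containing `Y_M`. -/
theorem resOf_sup_Y (hH : IsInFrakH p M H) :
    H ≤ normalizer (((pResidual p ↥H).map H.subtype ⊔ Y₀ : Subgroup G) : Set G) ∧
      ∀ U : Subgroup G, H ≤ normalizer (U : Set G) → Y₀ ≤ U →
        (pResidual p ↥H).map H.subtype ⊔ Y₀ ≤ U := by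
  set R := (pResidual p ↥H).map H.subtype with hR
  have hHR : H ≤ normalizer (R : Set G) := le_normalizer_resOf H
  constructor
  · conv_lhs => rw [← resOf_sup hH]
    refine sup_le ?_ (le_normalizer_sup_of_le (hH.2.1.trans hHR)
      ((CharP.pCoreOf_le M).trans (isRedIn_largest M).2.1))
    exact le_sup_left.trans Subgroup.le_normalizer
  · intro U hU hYU
    refine sup_le ?_ hYU
    conv_lhs => rw [hR, ← commutator_resOf hH]
    exact (commutator_mono le_rfl hYU).trans
      (le_normalizer_iff_commutator_le_right.mp ((resOf_le H).trans hU))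

theorem normalClosure_Y (hH : IsInFrakH p M H) :
    (pResidual p ↥H).map H.subtype ⊔ Y₀ =
      (normalClosure (((Y₀).subgroupOf H : Subgroup ↥H) : Set ↥H)).map H.subtype := by
  obtain ⟨h1, h2⟩ := resOf_sup_Y hH
  set W := (pResidual p ↥H).map H.subtype ⊔ Y₀
  have hWH : W ≤ H := sup_le (resOf_le H) (Y_le hH)
  refine le_antisymm (h2 _ ?_ ?_) ?_
  · exact (normal_subgroupOf_iff_le_normalizer (map_subtype_le _)).mp
      (by
        have : ((normalClosure (((Y₀).subgroupOf H : Subgroup ↥H) : Set ↥H)).map H.subtype).subgroupOf H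
            = normalClosure (((Y₀).subgroupOf H : Subgroup ↥H) : Set ↥H) :=
          comap_map_eq_self_of_injective H.subtype_injective _
        rw [this]
        exact normalClosure_normal)
  · conv_lhs => rw [← map_subgroupOf_eq_of_le (Y_le hH)]
    exact map_mono le_normalClosure
  · rw [← map_subgroupOf_eq_of_le hWH]
    refine map_mono ?_
    haveI := (normal_subgroupOf_iff_le_normalizer hWH).mpr h1
    exact normalClosure_le_normal fun x hx => mem_sup_right (mem_subgroupOf.mp hx)

theorem normalClosure_T (hH : IsInFrakH p M H) :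
    (normalClosure (((T₀).subgroupOf H : Subgroup ↥H) : Set ↥H)).map H.subtype = H := by
  refine eq_of_normal hH (map_subtype_le _) ?_ ?_
  · refine (normal_subgroupOf_iff_le_normalizer (map_subtype_le _)).mp ?_
    rw [show ((normalClosure (((T₀).subgroupOf H : Subgroup ↥H) : Set ↥H)).map H.subtype).subgroupOf H
      = normalClosure (((T₀).subgroupOf H : Subgroup ↥H) : Set ↥H) from
        comap_map_eq_self_of_injective H.subtype_injective _]
    exact normalClosure_normal
  · conv_lhs => rw [← map_subgroupOf_eq_of_le hH.2.1]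
    exact map_mono le_normalClosure

/-- `O_p(H)` normalizes `O_p(M)`. -/
theorem pCoreOf_le_normalizer (h : BasicSetting S M) (hasym : ¬ IsSymmetricIn (Y₀ : Subgroup G))
    {K : Subgroup G} (hK : T₀ ≤ K) : pCoreOf p K ≤ normalizer ((T₀ : Subgroup G) : Set G) :=
  le_sup_left.trans (Subgroup.le_normalizer.trans
    (wc_normalizer_le (h.isWeaklyClosed hasym)
      ((CharP.pCoreOf_isPGroup K).to_sup_of_normal_left' (CharP.pCoreOf_isPGroup M)
        (hK.trans (CharP.le_normalizer_pCoreOf K))) le_sup_right))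

/-- `O_p(M)` is a Sylow subgroup of `C(Y_M)`, so an overgroup of characteristic `p` witnesses tallness. -/
theorem exists_charP_over (h : BasicSetting S M) (htall : IsCharPTall p (Y₀ : Subgroup G)) :
    ∃ L : Subgroup G, T₀ ≤ L ∧ centralizer (pCore p ↥L : Set ↥L) ≤ pCore p ↥L ∧
      ¬ Y₀ ≤ pCoreOf p L := by
  obtain ⟨T, L, hTL, hchar, hY⟩ := htall
  obtain ⟨c, hc, hcT⟩ := exists_conj_le_sylow_map T pCoreOf_le_centralizer_Y (CharP.pCoreOf_isPGroup M)
  refine ⟨L.map (MulAut.conj c⁻¹).toMonoidHom, ?_, ?_, fun hle => hY ?_⟩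
  · rw [← conj_map_le_iff] ; exact hcT.trans hTL
  · rw [Amalgam.charP_iff_ambient] at hchar ⊢
    exact Amalgam.charP_map (MulAut.conj c⁻¹).injective hchar
  · rw [Amalgam.pCoreOf_map _ (MulAut.conj c⁻¹).injective] at hle
    intro y hy
    obtain ⟨z, hz, hzy⟩ := hle hy
    have hcy : c * y * c⁻¹ = y := by
      rw [← mem_centralizer_iff.mp hc y hy, mul_inv_cancel_right]
    have : z = y := by
      rw [← hcy, ← hzy]
      show z = c * (c⁻¹ * z * c⁻¹⁻¹) * c⁻¹
      group
    exact this ▸ hz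

end Cfsg.Agent.Lib.FrakH55
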